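import Mathlib
import Cfsg.Agent.H684.BlockTools
import Cfsg.Agent.H703.Lat.Basic
import Cfsg.Agent.Blocks.BlockKer
import Cfsg.Agent.Lib.Cores

/-!
# S4874, `p = 2`, T4 (plan of helper844): proper quotients

`quot` : `k(B₀(G)) = 5`, `O_{2'}(G) = 1`, `1 ≠ N ⊴ G`: `k(B₀(G/N)) ≤ 4` and `8` does not divide `|G/N|`.
-/

set_option autoImplicit false

open Cfsg

namespace Cfsg.Agent.H126.K5

open Cfsg.Agent.H684.BlockTools Cfsg.Agent.H703.Lat

universe u

/-- a sum of at most `n` squares mod 8 -/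
theorem exists_sum {ι : Type*} (s : Finset ι) (f : ι → ℤ) :
    ∃ a b : ℕ, a + b ≤ s.card ∧ (∑ i ∈ s, f i ^ 2) % 8 = ((a : ℤ) + 4 * b) % 8 := by
  classical
  induction s using Finset.induction_on with
  | empty => exact ⟨0, 0, by simp, by simp⟩
  | insert x s hx ih =>
    obtain ⟨a, b, hab, h⟩ := ih
    rw [Finset.sum_insert hx, Finset.card_insert_of_notMem hx]
    have h4 : f x ^ 2 % 8 = 0 ∨ f x ^ 2 % 8 = 1 ∨ f x ^ 2 % 8 = 4 := by
      have h5 : f x % 8 = 0 ∨ f x % 8 = 1 ∨ f x % 8 = 2 ∨ f x % 8 = 3 ∨ f x % 8 = 4 ∨ f x % 8 = 5 ∨ f x % 8 = 6 ∨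
        f x % 8 = 7 := by omega
      rcases h5 with h5 | h5 | h5 | h5 | h5 | h5 | h5 | h5 <;> simp [pow_two, Int.mul_emod, h5]
    rcases h4 with h4 | h4 | h4
    · exact ⟨a, b, by omega, by omega⟩
    · exact ⟨a + 1, b, by omega, by push_cast; omega⟩
    · exact ⟨a, b + 1, by omega, by push_cast; omega⟩

theorem not_dvd_sum {ι : Type*} (s : Finset ι) (f : ι → ℤ) (hs : s.card ≤ 4) {i : ι} (hi : i ∈ s) (h1 : f i = 1) :
    ¬ (8 : ℤ) ∣ ∑ i ∈ s, f i ^ 2 := by
  classical
  intro h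
  obtain ⟨a, b, hab, h2⟩ := exists_sum (s.erase i) f
  rw [Finset.card_erase_of_mem hi] at hab
  rw [← Finset.insert_erase hi, Finset.sum_insert (Finset.notMem_erase i s), h1] at h
  omega

/-- **A group with at most four characters in the principal 2-block has order not divisible by 8.** -/
theorem not_eight_dvd {G : Type u} [Group G] [Finite G] {M : Ideal AlgInt} (hM : IsPModular 2 M)
    (h : Nat.card (principalBlock M G) ≤ 4) : ¬ 8 ∣ Nat.card G := by
  intro h8
  have h1 := dvd_sum_sq (G := G) hM (good_principal hM) (a := 3) h8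
  have hc : (B0 M G).card = Nat.card (principalBlock M G) := by
    rw [← Nat.card_eq_finsetCard]
    exact Nat.card_congr (Equiv.subtypeEquivRight fun χ => mem_B0)
  refine not_dvd_sum (B0 M G) (fun χ => (charDegree (χ : G → ℂ) : ℤ)) (by rw [hc]; exact h)
    (i := triv G) (mem_B0.2 (triv_mem hM)) ?_ (by simpa using h1)
  have h2 : (charDegree ((triv G : IrrCharacter G) : G → ℂ) : ℂ) = 1 := by
    rw [← Cfsg.Agent.Blocks.Basic.irr_one_eq_charDegree (triv G).2]
    rfl
  exact_mod_cast h2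

/-- The elements in the kernel of all characters of the principal block. -/
theorem eq_one_of_kernel {G : Type u} [Group G] [Finite G] {p : ℕ} [hp : Fact p.Prime] {M : Ideal AlgInt}
    (hM : IsPModular p M) (hcore : pPrimeCore p G = ⊥) {y : G}
    (hy : ∀ χ ∈ principalBlock M G, (χ : G → ℂ) y = (χ : G → ℂ) 1) : y = 1 := by
  obtain ⟨K, hKn, hK, hpK, -, -⟩ := Blocks.BlockKer.blockKer_result p M hM (principalBlock M G)
    H684.BlockTools.isPBlock_principal (triv G) (triv_mem hM)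
  have h2 : K ≤ pPrimeCore p G := Lib.Cores.le_pPrimeCore hKn ((Nat.Prime.coprime_iff_not_dvd hp.out).2 hpK).symm
  have h3 : y ∈ (K : Set G) := by
    rw [hK]
    exact hy
  have h4 := h2 h3
  rw [hcore, Subgroup.mem_bot] at h4
  exact h4

/-- A proper quotient has fewer characters in the principal block. -/
theorem card_quot_lt {G : Type u} [Group G] [Finite G] {p : ℕ} [hp : Fact p.Prime] {M : Ideal AlgInt}
    (hM : IsPModular p M) (hcore : pPrimeCore p G = ⊥) (N : Subgroup G) [N.Normal] (hN : N ≠ ⊥) :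
    Nat.card (principalBlock M (G ⧸ N)) < Nat.card (principalBlock M G) := by
  classical
  have hs : Function.Surjective (QuotientGroup.mk' N) := QuotientGroup.mk'_surjective N
  have := finite_principal (M := M) (G := G)
  have hsub : infl (QuotientGroup.mk' N) hs '' principalBlock M (G ⧸ N) ⊂ principalBlock M G := by
    refine ⟨?_, fun h => hN ?_⟩
    · rintro _ ⟨χ, hχ, rfl⟩
      exact infl_mem hM _ hs hχ
    · rw [Subgroup.eq_bot_iff_forall]
      intro y hy
      refine eq_one_of_kernel hM hcore fun χ hχ => ?_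
      obtain ⟨ψ, -, rfl⟩ := h hχ
      show (ψ : G ⧸ N → ℂ) (QuotientGroup.mk' N y) = (ψ : G ⧸ N → ℂ) (QuotientGroup.mk' N 1)
      rw [QuotientGroup.mk'_apply, (QuotientGroup.eq_one_iff y).2 hy, map_one]
  have h1 := Set.ncard_lt_ncard hsub (Set.toFinite _)
  rw [Set.ncard_image_of_injective _ (infl_injective _ hs)] at h1
  exact h1

/-- **T4 QUOT.** -/
theorem quot {G : Type u} [Group G] [Finite G] {M : Ideal AlgInt} (hM : IsPModular 2 M)
    (hk : Nat.card (principalBlock M G) = 5) (hcore : pPrimeCore 2 G = ⊥)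
    (N : Subgroup G) [N.Normal] (hN : N ≠ ⊥) : Nat.card (principalBlock M (G ⧸ N)) ≤ 4 ∧ ¬ 8 ∣ N.index := by
  have : Fact (Nat.Prime 2) := ⟨Nat.prime_two⟩
  have h1 := card_quot_lt hM hcore N hN
  have h2 : Nat.card (principalBlock M (G ⧸ N)) ≤ 4 := by omega
  exact ⟨h2, not_eight_dvd hM h2⟩

end Cfsg.Agent.H126.K5
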